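import Mathlib
import Cfsg.Agent.Lib.Helper56.TCPerm
import Cfsg.Agent.Lib.Helper56.TCFast
import Cfsg.Agent.Lib.Helper56.Fi24S.OD0
import Cfsg.Agent.Lib.Helper56.Fi24S.OD1
import Cfsg.Agent.Lib.Helper56.Fi24S.OD2
import Cfsg.Agent.Lib.Helper56.Fi24S.OD3
set_option autoImplicit false
set_option maxRecDepth 1000000

namespace Cfsg.Agent.Lib.Helper56.Fi24S

open Cfsg.Agent.Lib.Helper56.TC Cfsg.Agent.Lib.Helper56.TC.Tabs

noncomputable def o0A : List (List ℕ) := [o0A0, o0A1, o0A2, o0A3, o0A4, o0A5, o0A6, o0A7, o0A8, o0A9, o0A10, o0A11, o0A12, o0A13, o0A14, o0A15, o0A16, o0A17, o0A18, o0A19, o0A20, o0A21, o0A22, o0A23, o0A24, o0A25]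

noncomputable def o0I : List (List ℕ) := [o0I0, o0I1, o0I2, o0I3, o0I4, o0I5, o0I6, o0I7, o0I8, o0I9, o0I10, o0I11]

/-- generator words of the orbit certificate -/
noncomputable def o0W : List (List ℕ) := [[0, 1],
    [0, 2],
    [0, 3],
    [0, 4],
    [0, 5],
    [0, 6],
    [0, 7],
    [0, 8],
    [0, 9],
    [0, 10],
    [0, 11],
    [1, 0],
    [2, 0],
    [3, 0],
    [4, 0],
    [5, 0],
    [6, 0],
    [7, 0],
    [8, 0],
    [9, 0],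
    [10, 0],
    [11, 0]]

/-- an orbit certificate -/
noncomputable def o0R : Orb where
  m := 306936
  ng := 22
  gw := fun j => nthL o0W j
  par := fldA o0A 381 43 8796093022207 19 524287
  gen := fldA o0A 381 43 8796093022207 38 31
  O := fldA o0A 381 43 8796093022207 0 524287
  Inv := fldA o0I 862 19 524287 0 524287

noncomputable def oAA : List (List ℕ) := [oAA0, oAA1, oAA2]

noncomputable def oAI : List (List ℕ) := [oAI0, oAI1, oAI2, oAI3, oAI4, oAI5, oAI6, oAI7, oAI8]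

/-- generator words of the orbit certificate -/
noncomputable def oAW : List (List ℕ) := [[0, 2],
    [0, 3],
    [0, 4],
    [0, 5],
    [0, 6],
    [0, 7],
    [0, 8],
    [0, 9],
    [0, 10],
    [0, 11]]

/-- an orbit certificate -/
noncomputable def oAR : Orb where
  m := 31671
  ng := 10
  gw := fun j => nthL oAW j
  par := fldA oAA 431 38 274877906943 19 32767
  gen := fldA oAA 431 38 274877906943 34 15
  O := fldA oAA 431 38 274877906943 0 524287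
  Inv := fldA oAI 1092 15 32767 0 32767

noncomputable def oBA : List (List ℕ) := [oBA0, oBA1, oBA2, oBA3, oBA4, oBA5, oBA6, oBA7, oBA8, oBA9, oBA10, oBA11, oBA12, oBA13, oBA14, oBA15, oBA16, oBA17, oBA18, oBA19, oBA20, oBA21, oBA22]

noncomputable def oBI : List (List ℕ) := [oBI0, oBI1, oBI2, oBI3, oBI4, oBI5, oBI6, oBI7, oBI8, oBI9, oBI10, oBI11]

/-- generator words of the orbit certificate -/
noncomputable def oBW : List (List ℕ) := [[0, 2],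
    [0, 3],
    [0, 4],
    [0, 5],
    [0, 6],
    [0, 7],
    [0, 8],
    [0, 9],
    [0, 10],
    [0, 11]]

/-- an orbit certificate -/
noncomputable def oBR : Orb where
  m := 275264
  ng := 10
  gw := fun j => nthL oBW j
  par := fldA oBA 390 42 4398046511103 19 524287
  gen := fldA oBA 390 42 4398046511103 38 15
  O := fldA oBA 390 42 4398046511103 0 524287
  Inv := fldA oBI 862 19 524287 0 524287

noncomputable def o2A : List (List ℕ) := [o2A0]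

noncomputable def o2I : List (List ℕ) := [o2I0, o2I1, o2I2, o2I3, o2I4, o2I5, o2I6, o2I7]

/-- generator words of the orbit certificate -/
noncomputable def o2W : List (List ℕ) := [[11, 10, 7, 5, 6, 4, 5, 10, 11, 8, 7, 4, 5, 6, 3, 4, 5, 10, 9, 8, 7, 6, 5, 4, 3, 2, 3, 4, 5, 6, 7, 8, 9, 10, 5, 4, 3, 6, 5, 4, 7, 8, 11, 10, 5, 4, 6, 5, 7, 10, 11],
    [10, 5, 6, 4, 5, 10, 11, 7, 6, 3, 4, 5, 10, 8, 7, 6, 5, 4, 3, 2, 3, 4, 5, 6, 7, 8, 10, 5, 4, 3, 6, 7, 11, 10, 5, 4, 6, 5, 10],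
    [6, 4, 5, 10, 9, 7, 8, 6, 7, 5, 6, 4, 5, 10, 11, 6, 7, 4, 5, 6, 3, 4, 5, 10, 9, 8, 7, 6, 5, 4, 3, 2, 3, 4, 5, 6, 7, 8, 9, 10, 5, 4, 3, 6, 5, 4, 7, 6, 11, 10, 5, 4, 6, 5, 7, 6, 8, 7, 9, 10, 5, 4, 6],
    [11, 10, 5, 6, 4, 5, 10, 11, 10, 6, 7, 5, 6, 3, 4, 5, 10, 8, 7, 6, 5, 4, 3, 2, 3, 4, 5, 6, 7, 8, 10, 5, 4, 3, 6, 5, 7, 6, 10, 11, 10, 5, 4, 6, 5, 10, 11],
    [10, 8, 9, 7, 8, 6, 7, 5, 6, 4, 5, 10, 11, 7, 8, 6, 7, 5, 6, 3, 4, 5, 10, 9, 8, 7, 6, 5, 4, 3, 2, 3, 4, 5, 6, 7, 8, 9, 10, 5, 4, 3, 6, 5, 7, 6, 8, 7, 11, 10, 5, 4, 6, 5, 7, 6, 8, 7, 9, 8, 10],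
    [8, 7, 6, 4, 5, 10, 11, 5, 10, 7, 8, 6, 7, 5, 6, 3, 4, 5, 10, 9, 8, 7, 6, 5, 4, 3, 2, 3, 4, 5, 6, 7, 8, 9, 10, 5, 4, 3, 6, 5, 7, 6, 8, 7, 10, 5, 11, 10, 5, 4, 6, 7, 8]]

/-- an orbit certificate -/
noncomputable def o2R : Orb where
  m := 3510
  ng := 6
  gw := fun j => nthL o2W j
  par := fldA o2A 481 34 17179869183 19 4095
  gen := fldA o2A 481 34 17179869183 31 7
  O := fldA o2A 481 34 17179869183 0 524287
  Inv := fldA o2I 1365 12 4095 0 4095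

noncomputable def o3A : List (List ℕ) := [o3A0, o3A1]

noncomputable def o3I : List (List ℕ) := [o3I0, o3I1, o3I2, o3I3, o3I4, o3I5, o3I6, o3I7, o3I8]

/-- generator words of the orbit certificate -/
noncomputable def o3W : List (List ℕ) := [[6, 5, 10, 11, 4, 5, 10, 6, 7, 5, 6, 4, 5, 10, 11, 6, 3, 4, 5, 10, 9, 8, 7, 6, 5, 4, 3, 2, 3, 4, 5, 6, 7, 8, 9, 10, 5, 4, 3, 6, 11, 10, 5, 4, 6, 5, 7, 6, 10, 5, 4, 11, 10, 5, 6],
    [10, 7, 8, 6, 7, 5, 6, 4, 5, 10, 11, 10, 7, 8, 6, 7, 4, 5, 6, 3, 4, 5, 10, 9, 8, 7, 6, 5, 4, 3, 2, 3, 4, 5, 6, 7, 8, 9, 10, 5, 4, 3, 6, 5, 4, 7, 6, 8, 7, 10, 11, 10, 5, 4, 6, 5, 7, 6, 8, 7, 10],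
    [11, 6, 7, 8, 5, 6, 7, 4, 5, 6, 3, 4, 5, 10, 9, 8, 7, 6, 5, 4, 3, 2, 3, 4, 5, 6, 7, 8, 9, 10, 5, 4, 3, 6, 5, 4, 7, 6, 5, 8, 7, 6, 11],
    [6, 7, 5, 6, 4, 5, 10, 11, 7, 6, 3, 4, 5, 10, 8, 7, 6, 5, 4, 3, 2, 3, 4, 5, 6, 7, 8, 10, 5, 4, 3, 6, 7, 11, 10, 5, 4, 6, 5, 7, 6],
    [11, 6, 5, 10, 7, 8, 6, 7, 5, 6, 3, 4, 5, 10, 9, 8, 7, 6, 5, 4, 3, 2, 3, 4, 5, 6, 7, 8, 9, 10, 5, 4, 3, 6, 5, 7, 6, 8, 7, 10, 5, 6, 11],
    [8, 7, 6, 5, 10, 11, 4, 5, 10, 6, 7, 5, 6, 4, 5, 10, 11, 8, 7, 6, 3, 4, 5, 10, 9, 8, 7, 6, 5, 4, 3, 2, 3, 4, 5, 6, 7, 8, 9, 10, 5, 4, 3, 6, 7, 8, 11, 10, 5, 4, 6, 5, 7, 6, 10, 5, 4, 11, 10, 5, 6, 7, 8]]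

/-- an orbit certificate -/
noncomputable def o3R : Orb where
  m := 25344
  ng := 6
  gw := fun j => nthL o3W j
  par := fldA o3A 442 37 137438953471 19 32767
  gen := fldA o3A 442 37 137438953471 34 7
  O := fldA o3A 442 37 137438953471 0 524287
  Inv := fldA o3I 1092 15 32767 0 32767

noncomputable def o4A : List (List ℕ) := [o4A0]

noncomputable def o4I : List (List ℕ) := [o4I0, o4I1, o4I2, o4I3]

/-- generator words of the orbit certificate -/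
noncomputable def o4W : List (List ℕ) := [[8, 7, 6, 7, 8],
    [5, 10, 6, 5, 4, 5, 6, 10, 5],
    [8, 7, 8],
    [6, 7, 5, 6, 4, 5, 10, 11, 8, 7, 6, 5, 10, 9, 8, 7, 6, 5, 4, 5, 6, 7, 8, 9, 10, 5, 6, 7, 8, 11, 10, 5, 4, 6, 5, 7, 6],
    [11, 5, 10, 9, 8, 7, 6, 5, 4, 5, 6, 7, 8, 9, 10, 5, 11],
    [11, 5, 10, 8, 7, 6, 5, 4, 5, 6, 7, 8, 10, 5, 11],
    [10, 11, 5, 10, 6, 5, 4, 5, 6, 10, 5, 11, 10]]

/-- an orbit certificate -/
noncomputable def o4R : Orb where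
  m := 63
  ng := 7
  gw := fun j => nthL o4W j
  par := fldA o4A 585 28 268435455 19 63
  gen := fldA o4A 585 28 268435455 25 7
  O := fldA o4A 585 28 268435455 0 524287
  Inv := fldA o4I 2730 6 63 0 63

noncomputable def o5A : List (List ℕ) := [o5A0]

noncomputable def o5I : List (List ℕ) := [o5I0, o5I1, o5I2, o5I3, o5I4]

/-- generator words of the orbit certificate -/
noncomputable def o5W : List (List ℕ) := [[5, 6, 4, 5, 10, 11, 7, 6, 5, 10, 8, 7, 6, 5, 4, 5, 6, 7, 8, 10, 5, 6, 7, 11, 10, 5, 4, 6, 5],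
    [8, 7, 6, 5, 10, 9, 8, 7, 6, 5, 4, 5, 6, 7, 8, 9, 10, 5, 6, 7, 8],
    [11],
    [10, 11, 5, 10, 6, 5, 4, 5, 6, 10, 5, 11, 10],
    [5, 10, 6, 5, 4, 5, 6, 10, 5],
    [10, 5, 6, 4, 5, 10, 11, 7, 6, 5, 10, 9, 8, 7, 6, 5, 4, 5, 6, 7, 8, 9, 10, 5, 6, 7, 11, 10, 5, 4, 6, 5, 10]]

/-- an orbit certificate -/
noncomputable def o5R : Orb where
  m := 96
  ng := 6
  gw := fun j => nthL o5W j
  par := fldA o5A 564 29 536870911 19 127
  gen := fldA o5A 564 29 536870911 26 7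
  O := fldA o5A 564 29 536870911 0 524287
  Inv := fldA o5I 2340 7 127 0 127

noncomputable def o6A : List (List ℕ) := [o6A0]

noncomputable def o6I : List (List ℕ) := [o6I0, o6I1]

/-- generator words of the orbit certificate -/
noncomputable def o6W : List (List ℕ) := [[6]]

/-- an orbit certificate -/
noncomputable def o6R : Orb where
  m := 2
  ng := 1
  gw := fun j => nthL o6W j
  par := fldA o6A 780 21 2097151 19 1
  gen := fldA o6A 780 21 2097151 20 1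
  O := fldA o6A 780 21 2097151 0 524287
  Inv := fldA o6I 8192 2 3 0 3

noncomputable def o7A : List (List ℕ) := [o7A0]

noncomputable def o7I : List (List ℕ) := [o7I0, o7I1, o7I2, o7I3, o7I4]

/-- generator words of the orbit certificate -/
noncomputable def o7W : List (List ℕ) := [[7, 6, 5, 10, 9, 8, 7, 6, 5, 4, 5, 6, 7, 8, 9, 10, 5, 6, 7],
    [9],
    [11, 7, 6, 5, 10, 9, 8, 7, 6, 5, 4, 5, 6, 7, 8, 9, 10, 5, 6, 7, 11],
    [9, 8, 7, 6, 5, 10, 4, 5, 6, 3, 4, 5, 10, 7, 8, 6, 7, 5, 6, 4, 5, 10, 9, 8, 7, 6, 5, 4, 3, 4, 5, 6, 7, 8, 9, 10, 5, 4, 6, 5, 7, 6, 8, 7, 10, 5, 4, 3, 6, 5, 4, 10, 5, 6, 7, 8, 9],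
    [4]]

/-- an orbit certificate -/
noncomputable def o7R : Orb where
  m := 120
  ng := 5
  gw := fun j => nthL o7W j
  par := fldA o7A 564 29 536870911 19 127
  gen := fldA o7A 564 29 536870911 26 7
  O := fldA o7A 564 29 536870911 0 524287
  Inv := fldA o7I 2340 7 127 0 127

noncomputable def o8A : List (List ℕ) := [o8A0]

noncomputable def o8I : List (List ℕ) := [o8I0, o8I1]

/-- generator words of the orbit certificate -/
noncomputable def o8W : List (List ℕ) := [[9, 8, 7, 6, 5, 10, 4, 5, 6, 3, 4, 5, 10, 7, 8, 6, 7, 5, 6, 4, 5, 10, 9, 8, 7, 6, 5, 4, 3, 4, 5, 6, 7, 8, 9, 10, 5, 4, 6, 5, 7, 6, 8, 7, 10, 5, 4, 3, 6, 5, 4, 10, 5, 6, 7, 8, 9]]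

/-- an orbit certificate -/
noncomputable def o8R : Orb where
  m := 2
  ng := 1
  gw := fun j => nthL o8W j
  par := fldA o8A 780 21 2097151 19 1
  gen := fldA o8A 780 21 2097151 20 1
  O := fldA o8A 780 21 2097151 0 524287
  Inv := fldA o8I 8192 2 3 0 3

noncomputable def oRA : List (List ℕ) := [oRA0]

noncomputable def oRI : List (List ℕ) := [oRI0, oRI1, oRI2, oRI3, oRI4, oRI5, oRI6]

/-- generator words of the orbit certificate -/
noncomputable def oRW : List (List ℕ) := [[2],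
    [3],
    [4],
    [5],
    [6],
    [7],
    [10],
    [0],
    [1],
    [11]]

/-- an orbit certificate -/
noncomputable def oRR : Orb where
  m := 1080
  ng := 10
  gw := fun j => nthL oRW j
  par := fldA oRA 481 34 17179869183 19 2047
  gen := fldA oRA 481 34 17179869183 30 15
  O := fldA oRA 481 34 17179869183 0 524287
  Inv := fldA oRI 1489 11 2047 0 2047

/-- a word of order 29 -/
noncomputable def wy : List ℕ := [8, 2, 3, 4, 6, 3, 5, 9, 1, 2, 1, 7, 4, 6, 7, 0, 5, 10, 3, 7, 8, 3, 8, 7, 0, 5, 3, 11]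

noncomputable def tyA : List (List ℕ) := [tyA0, tyA1, tyA2, tyA3, tyA4, tyA5, tyA6, tyA7, tyA8, tyA9, tyA10, tyA11]
/-- the action of the word -/
noncomputable def tauy : ℕ → ℕ := fldA tyA 862 19 524287 0 524287

noncomputable def tzA : List (List ℕ) := [tzA0, tzA1, tzA2, tzA3, tzA4, tzA5, tzA6, tzA7, tzA8, tzA9, tzA10, tzA11]
/-- the action of the word -/
noncomputable def tauz : ℕ → ℕ := fldA tzA 862 19 524287 0 524287

end Cfsg.Agent.Lib.Helper56.Fi24S
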