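import Mathlib
import Cfsg.Agent.Lib.Helper56.TCPerm
import Cfsg.Agent.Lib.Helper56.TCPow
import Cfsg.Agent.Lib.Helper56.Fi24a.Cert
import Cfsg.Agent.Lib.Helper56.Fi24S.OrbD
import Cfsg.Agent.Lib.Helper56.Fi24S.OrbC0
import Cfsg.Agent.Lib.Helper56.Fi24S.OrbC1
import Cfsg.Agent.Lib.Helper56.Fi24S.OrbC2
import Cfsg.Agent.Lib.Helper56.Fi24S.OrbC3
import Cfsg.Agent.Lib.Helper56.Fi24S.OrbC4
import Cfsg.Agent.Lib.Helper56.Fi24S.OrbC5
import Cfsg.Agent.Lib.Helper56.Fi24S.OrbC6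
import Cfsg.Agent.Lib.Helper56.Fi24S.OrbC7
import Cfsg.Agent.Lib.Helper56.Fi24S.OrbC8
import Cfsg.Agent.Lib.Helper56.Fi24S.OrbC9
import Cfsg.Agent.Lib.Helper56.Fi24S.OrbC10
import Cfsg.Agent.Lib.Helper56.Fi24S.OrbC11
import Cfsg.Agent.Lib.Helper56.Fi24S.OrbC12
import Cfsg.Agent.Lib.Helper56.Fi24S.OrbC13
import Cfsg.Agent.Lib.Helper56.Fi24S.OrbC14
import Cfsg.Agent.Lib.Helper56.Fi24S.OrbC15
import Cfsg.Agent.Lib.Helper56.Fi24S.OrbC16
import Cfsg.Agent.Lib.Helper56.Fi24S.OrbC17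
import Cfsg.Agent.Lib.Helper56.Fi24S.OrbC18
import Cfsg.Agent.Lib.Helper56.Fi24S.OrbC19
import Cfsg.Agent.Lib.Helper56.Fi24S.OrbC20
import Cfsg.Agent.Lib.Helper56.Fi24S.OrbC21
import Cfsg.Agent.Lib.Helper56.Fi24S.OrbC22
import Cfsg.Agent.Lib.Helper56.Fi24S.OrbC23
import Cfsg.Agent.Lib.Helper56.Fi24S.OrbC24
import Cfsg.Agent.Lib.Helper56.Fi24S.OrbC25
import Cfsg.Agent.Lib.Helper56.Fi24S.OrbC26
import Cfsg.Agent.Lib.Helper56.Fi24S.OrbC27
import Cfsg.Agent.Lib.Helper56.Fi24S.OrbC28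
import Cfsg.Agent.Lib.Helper56.Fi24S.OrbC29
import Cfsg.Agent.Lib.Helper56.Fi24S.OrbC30
import Cfsg.Agent.Lib.Helper56.Fi24S.OrbC31
import Cfsg.Agent.Lib.Helper56.Fi24S.OrbC32
import Cfsg.Agent.Lib.Helper56.Fi24S.OrbC33
import Cfsg.Agent.Lib.Helper56.Fi24S.OrbC34
import Cfsg.Agent.Lib.Helper56.Fi24S.OrbC35
import Cfsg.Agent.Lib.Helper56.Fi24S.OrbC36
import Cfsg.Agent.Lib.Helper56.Fi24S.OrbC37
import Cfsg.Agent.Lib.Helper56.Fi24S.OrbC38
import Cfsg.Agent.Lib.Helper56.Fi24S.OrbC39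
import Cfsg.Agent.Lib.Helper56.Fi24S.OrbC40
import Cfsg.Agent.Lib.Helper56.Fi24S.OrbC41
import Cfsg.Agent.Lib.Helper56.Fi24S.OrbC42
import Cfsg.Agent.Lib.Helper56.Fi24S.OrbC43
import Cfsg.Agent.Lib.Helper56.Fi24S.OrbC44
import Cfsg.Agent.Lib.Helper56.Fi24S.OrbC45
import Cfsg.Agent.Lib.Helper56.Fi24S.OrbC46
import Cfsg.Agent.Lib.Helper56.Fi24S.OrbC47
import Cfsg.Agent.Lib.Helper56.Fi24S.OrbC48
import Cfsg.Agent.Lib.Helper56.Fi24S.OrbC49
import Cfsg.Agent.Lib.Helper56.Fi24S.OrbC50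
import Cfsg.Agent.Lib.Helper56.Fi24S.OrbC51
import Cfsg.Agent.Lib.Helper56.Fi24S.OrbC52
import Cfsg.Agent.Lib.Helper56.Fi24S.OrbC53
set_option autoImplicit false
set_option maxRecDepth 1000000

namespace Cfsg.Agent.Lib.Helper56.Fi24S

open Cfsg.Agent.Lib.Helper56.TC Cfsg.Agent.Lib.Helper56.TC.Tabs

theorem o0_u18750 : Upto (chkOrb Fi24a.T o0R 0) 18750 := upto_add (upto_zero (chkOrb Fi24a.T o0R 0)) rfl o0_c0
theorem o0_u37500 : Upto (chkOrb Fi24a.T o0R 0) 37500 := upto_add o0_u18750 rfl o0_c18750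
theorem o0_u56250 : Upto (chkOrb Fi24a.T o0R 0) 56250 := upto_add o0_u37500 rfl o0_c37500
theorem o0_u75000 : Upto (chkOrb Fi24a.T o0R 0) 75000 := upto_add o0_u56250 rfl o0_c56250
theorem o0_u93750 : Upto (chkOrb Fi24a.T o0R 0) 93750 := upto_add o0_u75000 rfl o0_c75000
theorem o0_u112500 : Upto (chkOrb Fi24a.T o0R 0) 112500 := upto_add o0_u93750 rfl o0_c93750
theorem o0_u131250 : Upto (chkOrb Fi24a.T o0R 0) 131250 := upto_add o0_u112500 rfl o0_c112500
theorem o0_u150000 : Upto (chkOrb Fi24a.T o0R 0) 150000 := upto_add o0_u131250 rfl o0_c131250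
theorem o0_u168750 : Upto (chkOrb Fi24a.T o0R 0) 168750 := upto_add o0_u150000 rfl o0_c150000
theorem o0_u187500 : Upto (chkOrb Fi24a.T o0R 0) 187500 := upto_add o0_u168750 rfl o0_c168750
theorem o0_u206250 : Upto (chkOrb Fi24a.T o0R 0) 206250 := upto_add o0_u187500 rfl o0_c187500
theorem o0_u225000 : Upto (chkOrb Fi24a.T o0R 0) 225000 := upto_add o0_u206250 rfl o0_c206250
theorem o0_u243750 : Upto (chkOrb Fi24a.T o0R 0) 243750 := upto_add o0_u225000 rfl o0_c225000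
theorem o0_u262500 : Upto (chkOrb Fi24a.T o0R 0) 262500 := upto_add o0_u243750 rfl o0_c243750
theorem o0_u281250 : Upto (chkOrb Fi24a.T o0R 0) 281250 := upto_add o0_u262500 rfl o0_c262500
theorem o0_u300000 : Upto (chkOrb Fi24a.T o0R 0) 300000 := upto_add o0_u281250 rfl o0_c281250
theorem o0_u306936 : Upto (chkOrb Fi24a.T o0R 0) 306936 := upto_add o0_u300000 rfl o0_c300000
theorem o0_all : ∀ x < 306936, (chkOrb Fi24a.T o0R 0) x = true := o0_u306936

theorem o0_hg : ∀ j < o0R.ng, (∀ a ∈ o0R.gw j, a < Fi24a.T.K) ∧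
    ∀ b ∈ ([] : List ℕ), b < Fi24a.T.N ∧ Fi24a.T.followT (o0R.gw j) b = b := by decide +kernel

theorem o0_ev : ∀ j < o0R.ng, (∀ a ∈ o0R.gw j, a < Fi24a.T.K) ∧ (o0R.gw j).length % 2 = 0 := by decide +kernel

theorem full_u40000 : Upto (inOrb o0R) 40000 := upto_add (upto_zero (inOrb o0R)) rfl full_c0
theorem full_u80000 : Upto (inOrb o0R) 80000 := upto_add full_u40000 rfl full_c40000
theorem full_u120000 : Upto (inOrb o0R) 120000 := upto_add full_u80000 rfl full_c80000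
theorem full_u160000 : Upto (inOrb o0R) 160000 := upto_add full_u120000 rfl full_c120000
theorem full_u200000 : Upto (inOrb o0R) 200000 := upto_add full_u160000 rfl full_c160000
theorem full_u240000 : Upto (inOrb o0R) 240000 := upto_add full_u200000 rfl full_c200000
theorem full_u280000 : Upto (inOrb o0R) 280000 := upto_add full_u240000 rfl full_c240000
theorem full_u306936 : Upto (inOrb o0R) 306936 := upto_add full_u280000 rfl full_c280000
theorem full_all : ∀ x < 306936, (inOrb o0R) x = true := full_u306936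

theorem oA_u18750 : Upto (chkOrb Fi24a.T oAR 6) 18750 := upto_add (upto_zero (chkOrb Fi24a.T oAR 6)) rfl oA_c0
theorem oA_u31671 : Upto (chkOrb Fi24a.T oAR 6) 31671 := upto_add oA_u18750 rfl oA_c18750
theorem oA_all : ∀ x < 31671, (chkOrb Fi24a.T oAR 6) x = true := oA_u31671

theorem oA_hg : ∀ j < oAR.ng, (∀ a ∈ oAR.gw j, a < Fi24a.T.K) ∧
    ∀ b ∈ ([0] : List ℕ), b < Fi24a.T.N ∧ Fi24a.T.followT (oAR.gw j) b = b := by decide +kernel

theorem oA_ev : ∀ j < oAR.ng, (∀ a ∈ oAR.gw j, a < Fi24a.T.K) ∧ (oAR.gw j).length % 2 = 0 ∧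
    Fi24a.T.followT (oAR.gw j) 0 = 0 := by decide +kernel

theorem oB_u18750 : Upto (chkOrb Fi24a.T oBR 1) 18750 := upto_add (upto_zero (chkOrb Fi24a.T oBR 1)) rfl oB_c0
theorem oB_u37500 : Upto (chkOrb Fi24a.T oBR 1) 37500 := upto_add oB_u18750 rfl oB_c18750
theorem oB_u56250 : Upto (chkOrb Fi24a.T oBR 1) 56250 := upto_add oB_u37500 rfl oB_c37500
theorem oB_u75000 : Upto (chkOrb Fi24a.T oBR 1) 75000 := upto_add oB_u56250 rfl oB_c56250
theorem oB_u93750 : Upto (chkOrb Fi24a.T oBR 1) 93750 := upto_add oB_u75000 rfl oB_c75000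
theorem oB_u112500 : Upto (chkOrb Fi24a.T oBR 1) 112500 := upto_add oB_u93750 rfl oB_c93750
theorem oB_u131250 : Upto (chkOrb Fi24a.T oBR 1) 131250 := upto_add oB_u112500 rfl oB_c112500
theorem oB_u150000 : Upto (chkOrb Fi24a.T oBR 1) 150000 := upto_add oB_u131250 rfl oB_c131250
theorem oB_u168750 : Upto (chkOrb Fi24a.T oBR 1) 168750 := upto_add oB_u150000 rfl oB_c150000
theorem oB_u187500 : Upto (chkOrb Fi24a.T oBR 1) 187500 := upto_add oB_u168750 rfl oB_c168750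
theorem oB_u206250 : Upto (chkOrb Fi24a.T oBR 1) 206250 := upto_add oB_u187500 rfl oB_c187500
theorem oB_u225000 : Upto (chkOrb Fi24a.T oBR 1) 225000 := upto_add oB_u206250 rfl oB_c206250
theorem oB_u243750 : Upto (chkOrb Fi24a.T oBR 1) 243750 := upto_add oB_u225000 rfl oB_c225000
theorem oB_u262500 : Upto (chkOrb Fi24a.T oBR 1) 262500 := upto_add oB_u243750 rfl oB_c243750
theorem oB_u275264 : Upto (chkOrb Fi24a.T oBR 1) 275264 := upto_add oB_u262500 rfl oB_c262500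
theorem oB_all : ∀ x < 275264, (chkOrb Fi24a.T oBR 1) x = true := oB_u275264

theorem oB_hg : ∀ j < oBR.ng, (∀ a ∈ oBR.gw j, a < Fi24a.T.K) ∧
    ∀ b ∈ ([0] : List ℕ), b < Fi24a.T.N ∧ Fi24a.T.followT (oBR.gw j) b = b := by decide +kernel

theorem oB_ev : ∀ j < oBR.ng, (∀ a ∈ oBR.gw j, a < Fi24a.T.K) ∧ (oBR.gw j).length % 2 = 0 ∧
    Fi24a.T.followT (oBR.gw j) 0 = 0 := by decide +kernel

theorem o2_u2173 : Upto (chkOrb Fi24a.T o2R 24) 2173 := upto_add (upto_zero (chkOrb Fi24a.T o2R 24)) rfl o2_c0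
theorem o2_u3510 : Upto (chkOrb Fi24a.T o2R 24) 3510 := upto_add o2_u2173 rfl o2_c2173
theorem o2_all : ∀ x < 3510, (chkOrb Fi24a.T o2R 24) x = true := o2_u3510

theorem o2_hg : ∀ j < o2R.ng, (∀ a ∈ o2R.gw j, a < Fi24a.T.K) ∧
    ∀ b ∈ ([6, 0] : List ℕ), b < Fi24a.T.N ∧ Fi24a.T.followT (o2R.gw j) b = b := by decide +kernel

theorem o3_u2173 : Upto (chkOrb Fi24a.T o3R 1) 2173 := upto_add (upto_zero (chkOrb Fi24a.T o3R 1)) rfl o3_c0
theorem o3_u4346 : Upto (chkOrb Fi24a.T o3R 1) 4346 := upto_add o3_u2173 rfl o3_c2173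
theorem o3_u6519 : Upto (chkOrb Fi24a.T o3R 1) 6519 := upto_add o3_u4346 rfl o3_c4346
theorem o3_u8692 : Upto (chkOrb Fi24a.T o3R 1) 8692 := upto_add o3_u6519 rfl o3_c6519
theorem o3_u10865 : Upto (chkOrb Fi24a.T o3R 1) 10865 := upto_add o3_u8692 rfl o3_c8692
theorem o3_u13038 : Upto (chkOrb Fi24a.T o3R 1) 13038 := upto_add o3_u10865 rfl o3_c10865
theorem o3_u15211 : Upto (chkOrb Fi24a.T o3R 1) 15211 := upto_add o3_u13038 rfl o3_c13038
theorem o3_u17384 : Upto (chkOrb Fi24a.T o3R 1) 17384 := upto_add o3_u15211 rfl o3_c15211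
theorem o3_u19557 : Upto (chkOrb Fi24a.T o3R 1) 19557 := upto_add o3_u17384 rfl o3_c17384
theorem o3_u21730 : Upto (chkOrb Fi24a.T o3R 1) 21730 := upto_add o3_u19557 rfl o3_c19557
theorem o3_u23903 : Upto (chkOrb Fi24a.T o3R 1) 23903 := upto_add o3_u21730 rfl o3_c21730
theorem o3_u25344 : Upto (chkOrb Fi24a.T o3R 1) 25344 := upto_add o3_u23903 rfl o3_c23903
theorem o3_all : ∀ x < 25344, (chkOrb Fi24a.T o3R 1) x = true := o3_u25344

theorem o3_hg : ∀ j < o3R.ng, (∀ a ∈ o3R.gw j, a < Fi24a.T.K) ∧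
    ∀ b ∈ ([24, 6, 0] : List ℕ), b < Fi24a.T.N ∧ Fi24a.T.followT (o3R.gw j) b = b := by decide +kernel

theorem o4_u63 : Upto (chkOrb Fi24a.T o4R 113) 63 := upto_add (upto_zero (chkOrb Fi24a.T o4R 113)) rfl o4_c0
theorem o4_all : ∀ x < 63, (chkOrb Fi24a.T o4R 113) x = true := o4_u63

theorem o4_hg : ∀ j < o4R.ng, (∀ a ∈ o4R.gw j, a < Fi24a.T.K) ∧
    ∀ b ∈ ([1, 24, 6, 0] : List ℕ), b < Fi24a.T.N ∧ Fi24a.T.followT (o4R.gw j) b = b := by decide +kernel

theorem o5_u96 : Upto (chkOrb Fi24a.T o5R 21) 96 := upto_add (upto_zero (chkOrb Fi24a.T o5R 21)) rfl o5_c0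
theorem o5_all : ∀ x < 96, (chkOrb Fi24a.T o5R 21) x = true := o5_u96

theorem o5_hg : ∀ j < o5R.ng, (∀ a ∈ o5R.gw j, a < Fi24a.T.K) ∧
    ∀ b ∈ ([113, 1, 24, 6, 0] : List ℕ), b < Fi24a.T.N ∧ Fi24a.T.followT (o5R.gw j) b = b := by decide +kernel

theorem o6_u2 : Upto (chkOrb Fi24a.T o6R 360) 2 := upto_add (upto_zero (chkOrb Fi24a.T o6R 360)) rfl o6_c0
theorem o6_all : ∀ x < 2, (chkOrb Fi24a.T o6R 360) x = true := o6_u2

theorem o6_hg : ∀ j < o6R.ng, (∀ a ∈ o6R.gw j, a < Fi24a.T.K) ∧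
    ∀ b ∈ ([21, 113, 1, 24, 6, 0] : List ℕ), b < Fi24a.T.N ∧ Fi24a.T.followT (o6R.gw j) b = b := by decide +kernel

theorem o7_u120 : Upto (chkOrb Fi24a.T o7R 666) 120 := upto_add (upto_zero (chkOrb Fi24a.T o7R 666)) rfl o7_c0
theorem o7_all : ∀ x < 120, (chkOrb Fi24a.T o7R 666) x = true := o7_u120

theorem o7_hg : ∀ j < o7R.ng, (∀ a ∈ o7R.gw j, a < Fi24a.T.K) ∧
    ∀ b ∈ ([360, 21, 113, 1, 24, 6, 0] : List ℕ), b < Fi24a.T.N ∧ Fi24a.T.followT (o7R.gw j) b = b := by decide +kernel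

theorem o8_u2 : Upto (chkOrb Fi24a.T o8R 45) 2 := upto_add (upto_zero (chkOrb Fi24a.T o8R 45)) rfl o8_c0
theorem o8_all : ∀ x < 2, (chkOrb Fi24a.T o8R 45) x = true := o8_u2

theorem o8_hg : ∀ j < o8R.ng, (∀ a ∈ o8R.gw j, a < Fi24a.T.K) ∧
    ∀ b ∈ ([666, 360, 21, 113, 1, 24, 6, 0] : List ℕ), b < Fi24a.T.N ∧ Fi24a.T.followT (o8R.gw j) b = b := by decide +kernel

theorem oR_u1080 : Upto (chkOrb Fi24a.T oRR 0) 1080 := upto_add (upto_zero (chkOrb Fi24a.T oRR 0)) rfl oR_c0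
theorem oR_all : ∀ x < 1080, (chkOrb Fi24a.T oRR 0) x = true := oR_u1080

theorem oR_hg : ∀ j < oRR.ng, ∀ a ∈ oRR.gw j, a < Fi24a.T.K := by decide +kernel

theorem cover_u40000 : Upto (fun y => Nat.beq y 0 || (inOrb oAR y || inOrb oBR y)) 40000 := upto_add (upto_zero (fun y => Nat.beq y 0 || (inOrb oAR y || inOrb oBR y))) rfl cover_c0
theorem cover_u80000 : Upto (fun y => Nat.beq y 0 || (inOrb oAR y || inOrb oBR y)) 80000 := upto_add cover_u40000 rfl cover_c40000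
theorem cover_u120000 : Upto (fun y => Nat.beq y 0 || (inOrb oAR y || inOrb oBR y)) 120000 := upto_add cover_u80000 rfl cover_c80000
theorem cover_u160000 : Upto (fun y => Nat.beq y 0 || (inOrb oAR y || inOrb oBR y)) 160000 := upto_add cover_u120000 rfl cover_c120000
theorem cover_u200000 : Upto (fun y => Nat.beq y 0 || (inOrb oAR y || inOrb oBR y)) 200000 := upto_add cover_u160000 rfl cover_c160000
theorem cover_u240000 : Upto (fun y => Nat.beq y 0 || (inOrb oAR y || inOrb oBR y)) 240000 := upto_add cover_u200000 rfl cover_c200000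
theorem cover_u280000 : Upto (fun y => Nat.beq y 0 || (inOrb oAR y || inOrb oBR y)) 280000 := upto_add cover_u240000 rfl cover_c240000
theorem cover_u306936 : Upto (fun y => Nat.beq y 0 || (inOrb oAR y || inOrb oBR y)) 306936 := upto_add cover_u280000 rfl cover_c280000
theorem cover_all : ∀ x < 306936, (fun y => Nat.beq y 0 || (inOrb oAR y || inOrb oBR y)) x = true := cover_u306936

theorem zeroA : inOrb oAR 0 = false := by decide +kernel
theorem zeroB : inOrb oBR 0 = false := by decide +kernel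
theorem cntA : countLt (inOrb oAR) Fi24a.T.N = 31671 := by decide +kernel
theorem cntB : countLt (inOrb oBR) Fi24a.T.N = 275264 := by decide +kernel

theorem pyT_u2459 : Upto (chkPowT Fi24a.T tauy wy 29) 2459 := upto_add (upto_zero (chkPowT Fi24a.T tauy wy 29)) rfl pyT_c0
theorem pyT_u4918 : Upto (chkPowT Fi24a.T tauy wy 29) 4918 := upto_add pyT_u2459 rfl pyT_c2459
theorem pyT_u7377 : Upto (chkPowT Fi24a.T tauy wy 29) 7377 := upto_add pyT_u4918 rfl pyT_c4918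
theorem pyT_u9836 : Upto (chkPowT Fi24a.T tauy wy 29) 9836 := upto_add pyT_u7377 rfl pyT_c7377
theorem pyT_u12295 : Upto (chkPowT Fi24a.T tauy wy 29) 12295 := upto_add pyT_u9836 rfl pyT_c9836
theorem pyT_u14754 : Upto (chkPowT Fi24a.T tauy wy 29) 14754 := upto_add pyT_u12295 rfl pyT_c12295
theorem pyT_u17213 : Upto (chkPowT Fi24a.T tauy wy 29) 17213 := upto_add pyT_u14754 rfl pyT_c14754
theorem pyT_u19672 : Upto (chkPowT Fi24a.T tauy wy 29) 19672 := upto_add pyT_u17213 rfl pyT_c17213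
theorem pyT_u22131 : Upto (chkPowT Fi24a.T tauy wy 29) 22131 := upto_add pyT_u19672 rfl pyT_c19672
theorem pyT_u24590 : Upto (chkPowT Fi24a.T tauy wy 29) 24590 := upto_add pyT_u22131 rfl pyT_c22131
theorem pyT_u27049 : Upto (chkPowT Fi24a.T tauy wy 29) 27049 := upto_add pyT_u24590 rfl pyT_c24590
theorem pyT_u29508 : Upto (chkPowT Fi24a.T tauy wy 29) 29508 := upto_add pyT_u27049 rfl pyT_c27049
theorem pyT_u31967 : Upto (chkPowT Fi24a.T tauy wy 29) 31967 := upto_add pyT_u29508 rfl pyT_c29508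
theorem pyT_u34426 : Upto (chkPowT Fi24a.T tauy wy 29) 34426 := upto_add pyT_u31967 rfl pyT_c31967
theorem pyT_u36885 : Upto (chkPowT Fi24a.T tauy wy 29) 36885 := upto_add pyT_u34426 rfl pyT_c34426
theorem pyT_u39344 : Upto (chkPowT Fi24a.T tauy wy 29) 39344 := upto_add pyT_u36885 rfl pyT_c36885
theorem pyT_u41803 : Upto (chkPowT Fi24a.T tauy wy 29) 41803 := upto_add pyT_u39344 rfl pyT_c39344
theorem pyT_u44262 : Upto (chkPowT Fi24a.T tauy wy 29) 44262 := upto_add pyT_u41803 rfl pyT_c41803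
theorem pyT_u46721 : Upto (chkPowT Fi24a.T tauy wy 29) 46721 := upto_add pyT_u44262 rfl pyT_c44262
theorem pyT_u49180 : Upto (chkPowT Fi24a.T tauy wy 29) 49180 := upto_add pyT_u46721 rfl pyT_c46721
theorem pyT_u51639 : Upto (chkPowT Fi24a.T tauy wy 29) 51639 := upto_add pyT_u49180 rfl pyT_c49180
theorem pyT_u54098 : Upto (chkPowT Fi24a.T tauy wy 29) 54098 := upto_add pyT_u51639 rfl pyT_c51639
theorem pyT_u56557 : Upto (chkPowT Fi24a.T tauy wy 29) 56557 := upto_add pyT_u54098 rfl pyT_c54098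
theorem pyT_u59016 : Upto (chkPowT Fi24a.T tauy wy 29) 59016 := upto_add pyT_u56557 rfl pyT_c56557
theorem pyT_u61475 : Upto (chkPowT Fi24a.T tauy wy 29) 61475 := upto_add pyT_u59016 rfl pyT_c59016
theorem pyT_u63934 : Upto (chkPowT Fi24a.T tauy wy 29) 63934 := upto_add pyT_u61475 rfl pyT_c61475
theorem pyT_u66393 : Upto (chkPowT Fi24a.T tauy wy 29) 66393 := upto_add pyT_u63934 rfl pyT_c63934
theorem pyT_u68852 : Upto (chkPowT Fi24a.T tauy wy 29) 68852 := upto_add pyT_u66393 rfl pyT_c66393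
theorem pyT_u71311 : Upto (chkPowT Fi24a.T tauy wy 29) 71311 := upto_add pyT_u68852 rfl pyT_c68852
theorem pyT_u73770 : Upto (chkPowT Fi24a.T tauy wy 29) 73770 := upto_add pyT_u71311 rfl pyT_c71311
theorem pyT_u76229 : Upto (chkPowT Fi24a.T tauy wy 29) 76229 := upto_add pyT_u73770 rfl pyT_c73770
theorem pyT_u78688 : Upto (chkPowT Fi24a.T tauy wy 29) 78688 := upto_add pyT_u76229 rfl pyT_c76229
theorem pyT_u81147 : Upto (chkPowT Fi24a.T tauy wy 29) 81147 := upto_add pyT_u78688 rfl pyT_c78688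
theorem pyT_u83606 : Upto (chkPowT Fi24a.T tauy wy 29) 83606 := upto_add pyT_u81147 rfl pyT_c81147
theorem pyT_u86065 : Upto (chkPowT Fi24a.T tauy wy 29) 86065 := upto_add pyT_u83606 rfl pyT_c83606
theorem pyT_u88524 : Upto (chkPowT Fi24a.T tauy wy 29) 88524 := upto_add pyT_u86065 rfl pyT_c86065
theorem pyT_u90983 : Upto (chkPowT Fi24a.T tauy wy 29) 90983 := upto_add pyT_u88524 rfl pyT_c88524
theorem pyT_u93442 : Upto (chkPowT Fi24a.T tauy wy 29) 93442 := upto_add pyT_u90983 rfl pyT_c90983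
theorem pyT_u95901 : Upto (chkPowT Fi24a.T tauy wy 29) 95901 := upto_add pyT_u93442 rfl pyT_c93442
theorem pyT_u98360 : Upto (chkPowT Fi24a.T tauy wy 29) 98360 := upto_add pyT_u95901 rfl pyT_c95901
theorem pyT_u100819 : Upto (chkPowT Fi24a.T tauy wy 29) 100819 := upto_add pyT_u98360 rfl pyT_c98360
theorem pyT_u103278 : Upto (chkPowT Fi24a.T tauy wy 29) 103278 := upto_add pyT_u100819 rfl pyT_c100819
theorem pyT_u105737 : Upto (chkPowT Fi24a.T tauy wy 29) 105737 := upto_add pyT_u103278 rfl pyT_c103278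
theorem pyT_u108196 : Upto (chkPowT Fi24a.T tauy wy 29) 108196 := upto_add pyT_u105737 rfl pyT_c105737
theorem pyT_u110655 : Upto (chkPowT Fi24a.T tauy wy 29) 110655 := upto_add pyT_u108196 rfl pyT_c108196
theorem pyT_u113114 : Upto (chkPowT Fi24a.T tauy wy 29) 113114 := upto_add pyT_u110655 rfl pyT_c110655
theorem pyT_u115573 : Upto (chkPowT Fi24a.T tauy wy 29) 115573 := upto_add pyT_u113114 rfl pyT_c113114
theorem pyT_u118032 : Upto (chkPowT Fi24a.T tauy wy 29) 118032 := upto_add pyT_u115573 rfl pyT_c115573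
theorem pyT_u120491 : Upto (chkPowT Fi24a.T tauy wy 29) 120491 := upto_add pyT_u118032 rfl pyT_c118032
theorem pyT_u122950 : Upto (chkPowT Fi24a.T tauy wy 29) 122950 := upto_add pyT_u120491 rfl pyT_c120491
theorem pyT_u125409 : Upto (chkPowT Fi24a.T tauy wy 29) 125409 := upto_add pyT_u122950 rfl pyT_c122950
theorem pyT_u127868 : Upto (chkPowT Fi24a.T tauy wy 29) 127868 := upto_add pyT_u125409 rfl pyT_c125409
theorem pyT_u130327 : Upto (chkPowT Fi24a.T tauy wy 29) 130327 := upto_add pyT_u127868 rfl pyT_c127868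
theorem pyT_u132786 : Upto (chkPowT Fi24a.T tauy wy 29) 132786 := upto_add pyT_u130327 rfl pyT_c130327
theorem pyT_u135245 : Upto (chkPowT Fi24a.T tauy wy 29) 135245 := upto_add pyT_u132786 rfl pyT_c132786
theorem pyT_u137704 : Upto (chkPowT Fi24a.T tauy wy 29) 137704 := upto_add pyT_u135245 rfl pyT_c135245
theorem pyT_u140163 : Upto (chkPowT Fi24a.T tauy wy 29) 140163 := upto_add pyT_u137704 rfl pyT_c137704
theorem pyT_u142622 : Upto (chkPowT Fi24a.T tauy wy 29) 142622 := upto_add pyT_u140163 rfl pyT_c140163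
theorem pyT_u145081 : Upto (chkPowT Fi24a.T tauy wy 29) 145081 := upto_add pyT_u142622 rfl pyT_c142622
theorem pyT_u147540 : Upto (chkPowT Fi24a.T tauy wy 29) 147540 := upto_add pyT_u145081 rfl pyT_c145081
theorem pyT_u149999 : Upto (chkPowT Fi24a.T tauy wy 29) 149999 := upto_add pyT_u147540 rfl pyT_c147540
theorem pyT_u152458 : Upto (chkPowT Fi24a.T tauy wy 29) 152458 := upto_add pyT_u149999 rfl pyT_c149999
theorem pyT_u154917 : Upto (chkPowT Fi24a.T tauy wy 29) 154917 := upto_add pyT_u152458 rfl pyT_c152458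
theorem pyT_u157376 : Upto (chkPowT Fi24a.T tauy wy 29) 157376 := upto_add pyT_u154917 rfl pyT_c154917
theorem pyT_u159835 : Upto (chkPowT Fi24a.T tauy wy 29) 159835 := upto_add pyT_u157376 rfl pyT_c157376
theorem pyT_u162294 : Upto (chkPowT Fi24a.T tauy wy 29) 162294 := upto_add pyT_u159835 rfl pyT_c159835
theorem pyT_u164753 : Upto (chkPowT Fi24a.T tauy wy 29) 164753 := upto_add pyT_u162294 rfl pyT_c162294
theorem pyT_u167212 : Upto (chkPowT Fi24a.T tauy wy 29) 167212 := upto_add pyT_u164753 rfl pyT_c164753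
theorem pyT_u169671 : Upto (chkPowT Fi24a.T tauy wy 29) 169671 := upto_add pyT_u167212 rfl pyT_c167212
theorem pyT_u172130 : Upto (chkPowT Fi24a.T tauy wy 29) 172130 := upto_add pyT_u169671 rfl pyT_c169671
theorem pyT_u174589 : Upto (chkPowT Fi24a.T tauy wy 29) 174589 := upto_add pyT_u172130 rfl pyT_c172130
theorem pyT_u177048 : Upto (chkPowT Fi24a.T tauy wy 29) 177048 := upto_add pyT_u174589 rfl pyT_c174589
theorem pyT_u179507 : Upto (chkPowT Fi24a.T tauy wy 29) 179507 := upto_add pyT_u177048 rfl pyT_c177048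
theorem pyT_u181966 : Upto (chkPowT Fi24a.T tauy wy 29) 181966 := upto_add pyT_u179507 rfl pyT_c179507
theorem pyT_u184425 : Upto (chkPowT Fi24a.T tauy wy 29) 184425 := upto_add pyT_u181966 rfl pyT_c181966
theorem pyT_u186884 : Upto (chkPowT Fi24a.T tauy wy 29) 186884 := upto_add pyT_u184425 rfl pyT_c184425
theorem pyT_u189343 : Upto (chkPowT Fi24a.T tauy wy 29) 189343 := upto_add pyT_u186884 rfl pyT_c186884
theorem pyT_u191802 : Upto (chkPowT Fi24a.T tauy wy 29) 191802 := upto_add pyT_u189343 rfl pyT_c189343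
theorem pyT_u194261 : Upto (chkPowT Fi24a.T tauy wy 29) 194261 := upto_add pyT_u191802 rfl pyT_c191802
theorem pyT_u196720 : Upto (chkPowT Fi24a.T tauy wy 29) 196720 := upto_add pyT_u194261 rfl pyT_c194261
theorem pyT_u199179 : Upto (chkPowT Fi24a.T tauy wy 29) 199179 := upto_add pyT_u196720 rfl pyT_c196720
theorem pyT_u201638 : Upto (chkPowT Fi24a.T tauy wy 29) 201638 := upto_add pyT_u199179 rfl pyT_c199179
theorem pyT_u204097 : Upto (chkPowT Fi24a.T tauy wy 29) 204097 := upto_add pyT_u201638 rfl pyT_c201638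
theorem pyT_u206556 : Upto (chkPowT Fi24a.T tauy wy 29) 206556 := upto_add pyT_u204097 rfl pyT_c204097
theorem pyT_u209015 : Upto (chkPowT Fi24a.T tauy wy 29) 209015 := upto_add pyT_u206556 rfl pyT_c206556
theorem pyT_u211474 : Upto (chkPowT Fi24a.T tauy wy 29) 211474 := upto_add pyT_u209015 rfl pyT_c209015
theorem pyT_u213933 : Upto (chkPowT Fi24a.T tauy wy 29) 213933 := upto_add pyT_u211474 rfl pyT_c211474
theorem pyT_u216392 : Upto (chkPowT Fi24a.T tauy wy 29) 216392 := upto_add pyT_u213933 rfl pyT_c213933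
theorem pyT_u218851 : Upto (chkPowT Fi24a.T tauy wy 29) 218851 := upto_add pyT_u216392 rfl pyT_c216392
theorem pyT_u221310 : Upto (chkPowT Fi24a.T tauy wy 29) 221310 := upto_add pyT_u218851 rfl pyT_c218851
theorem pyT_u223769 : Upto (chkPowT Fi24a.T tauy wy 29) 223769 := upto_add pyT_u221310 rfl pyT_c221310
theorem pyT_u226228 : Upto (chkPowT Fi24a.T tauy wy 29) 226228 := upto_add pyT_u223769 rfl pyT_c223769
theorem pyT_u228687 : Upto (chkPowT Fi24a.T tauy wy 29) 228687 := upto_add pyT_u226228 rfl pyT_c226228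
theorem pyT_u231146 : Upto (chkPowT Fi24a.T tauy wy 29) 231146 := upto_add pyT_u228687 rfl pyT_c228687
theorem pyT_u233605 : Upto (chkPowT Fi24a.T tauy wy 29) 233605 := upto_add pyT_u231146 rfl pyT_c231146
theorem pyT_u236064 : Upto (chkPowT Fi24a.T tauy wy 29) 236064 := upto_add pyT_u233605 rfl pyT_c233605
theorem pyT_u238523 : Upto (chkPowT Fi24a.T tauy wy 29) 238523 := upto_add pyT_u236064 rfl pyT_c236064
theorem pyT_u240982 : Upto (chkPowT Fi24a.T tauy wy 29) 240982 := upto_add pyT_u238523 rfl pyT_c238523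
theorem pyT_u243441 : Upto (chkPowT Fi24a.T tauy wy 29) 243441 := upto_add pyT_u240982 rfl pyT_c240982
theorem pyT_u245900 : Upto (chkPowT Fi24a.T tauy wy 29) 245900 := upto_add pyT_u243441 rfl pyT_c243441
theorem pyT_u248359 : Upto (chkPowT Fi24a.T tauy wy 29) 248359 := upto_add pyT_u245900 rfl pyT_c245900
theorem pyT_u250818 : Upto (chkPowT Fi24a.T tauy wy 29) 250818 := upto_add pyT_u248359 rfl pyT_c248359
theorem pyT_u253277 : Upto (chkPowT Fi24a.T tauy wy 29) 253277 := upto_add pyT_u250818 rfl pyT_c250818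
theorem pyT_u255736 : Upto (chkPowT Fi24a.T tauy wy 29) 255736 := upto_add pyT_u253277 rfl pyT_c253277
theorem pyT_u258195 : Upto (chkPowT Fi24a.T tauy wy 29) 258195 := upto_add pyT_u255736 rfl pyT_c255736
theorem pyT_u260654 : Upto (chkPowT Fi24a.T tauy wy 29) 260654 := upto_add pyT_u258195 rfl pyT_c258195
theorem pyT_u263113 : Upto (chkPowT Fi24a.T tauy wy 29) 263113 := upto_add pyT_u260654 rfl pyT_c260654
theorem pyT_u265572 : Upto (chkPowT Fi24a.T tauy wy 29) 265572 := upto_add pyT_u263113 rfl pyT_c263113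
theorem pyT_u268031 : Upto (chkPowT Fi24a.T tauy wy 29) 268031 := upto_add pyT_u265572 rfl pyT_c265572
theorem pyT_u270490 : Upto (chkPowT Fi24a.T tauy wy 29) 270490 := upto_add pyT_u268031 rfl pyT_c268031
theorem pyT_u272949 : Upto (chkPowT Fi24a.T tauy wy 29) 272949 := upto_add pyT_u270490 rfl pyT_c270490
theorem pyT_u275408 : Upto (chkPowT Fi24a.T tauy wy 29) 275408 := upto_add pyT_u272949 rfl pyT_c272949
theorem pyT_u277867 : Upto (chkPowT Fi24a.T tauy wy 29) 277867 := upto_add pyT_u275408 rfl pyT_c275408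
theorem pyT_u280326 : Upto (chkPowT Fi24a.T tauy wy 29) 280326 := upto_add pyT_u277867 rfl pyT_c277867
theorem pyT_u282785 : Upto (chkPowT Fi24a.T tauy wy 29) 282785 := upto_add pyT_u280326 rfl pyT_c280326
theorem pyT_u285244 : Upto (chkPowT Fi24a.T tauy wy 29) 285244 := upto_add pyT_u282785 rfl pyT_c282785
theorem pyT_u287703 : Upto (chkPowT Fi24a.T tauy wy 29) 287703 := upto_add pyT_u285244 rfl pyT_c285244
theorem pyT_u290162 : Upto (chkPowT Fi24a.T tauy wy 29) 290162 := upto_add pyT_u287703 rfl pyT_c287703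
theorem pyT_u292621 : Upto (chkPowT Fi24a.T tauy wy 29) 292621 := upto_add pyT_u290162 rfl pyT_c290162
theorem pyT_u295080 : Upto (chkPowT Fi24a.T tauy wy 29) 295080 := upto_add pyT_u292621 rfl pyT_c292621
theorem pyT_u297539 : Upto (chkPowT Fi24a.T tauy wy 29) 297539 := upto_add pyT_u295080 rfl pyT_c295080
theorem pyT_u299998 : Upto (chkPowT Fi24a.T tauy wy 29) 299998 := upto_add pyT_u297539 rfl pyT_c297539
theorem pyT_u302457 : Upto (chkPowT Fi24a.T tauy wy 29) 302457 := upto_add pyT_u299998 rfl pyT_c299998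
theorem pyT_u304916 : Upto (chkPowT Fi24a.T tauy wy 29) 304916 := upto_add pyT_u302457 rfl pyT_c302457
theorem pyT_u306936 : Upto (chkPowT Fi24a.T tauy wy 29) 306936 := upto_add pyT_u304916 rfl pyT_c304916
theorem pyT_all : ∀ x < 306936, (chkPowT Fi24a.T tauy wy 29) x = true := pyT_u306936

theorem py_all : ∀ x < 306936, chkPow Fi24a.T wy 29 x = true :=
  chkPow_of_T Fi24a.cert.p1 tauy wy (by decide +kernel) 29 pyT_all

theorem pzT_u2380 : Upto (chkPowT Fi24a.T tauz (wy.reverse ++ [0, 1]) 29) 2380 := upto_add (upto_zero (chkPowT Fi24a.T tauz (wy.reverse ++ [0, 1]) 29)) rfl pzT_c0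
theorem pzT_u4760 : Upto (chkPowT Fi24a.T tauz (wy.reverse ++ [0, 1]) 29) 4760 := upto_add pzT_u2380 rfl pzT_c2380
theorem pzT_u7140 : Upto (chkPowT Fi24a.T tauz (wy.reverse ++ [0, 1]) 29) 7140 := upto_add pzT_u4760 rfl pzT_c4760
theorem pzT_u9520 : Upto (chkPowT Fi24a.T tauz (wy.reverse ++ [0, 1]) 29) 9520 := upto_add pzT_u7140 rfl pzT_c7140
theorem pzT_u11900 : Upto (chkPowT Fi24a.T tauz (wy.reverse ++ [0, 1]) 29) 11900 := upto_add pzT_u9520 rfl pzT_c9520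
theorem pzT_u14280 : Upto (chkPowT Fi24a.T tauz (wy.reverse ++ [0, 1]) 29) 14280 := upto_add pzT_u11900 rfl pzT_c11900
theorem pzT_u16660 : Upto (chkPowT Fi24a.T tauz (wy.reverse ++ [0, 1]) 29) 16660 := upto_add pzT_u14280 rfl pzT_c14280
theorem pzT_u19040 : Upto (chkPowT Fi24a.T tauz (wy.reverse ++ [0, 1]) 29) 19040 := upto_add pzT_u16660 rfl pzT_c16660
theorem pzT_u21420 : Upto (chkPowT Fi24a.T tauz (wy.reverse ++ [0, 1]) 29) 21420 := upto_add pzT_u19040 rfl pzT_c19040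
theorem pzT_u23800 : Upto (chkPowT Fi24a.T tauz (wy.reverse ++ [0, 1]) 29) 23800 := upto_add pzT_u21420 rfl pzT_c21420
theorem pzT_u26180 : Upto (chkPowT Fi24a.T tauz (wy.reverse ++ [0, 1]) 29) 26180 := upto_add pzT_u23800 rfl pzT_c23800
theorem pzT_u28560 : Upto (chkPowT Fi24a.T tauz (wy.reverse ++ [0, 1]) 29) 28560 := upto_add pzT_u26180 rfl pzT_c26180
theorem pzT_u30940 : Upto (chkPowT Fi24a.T tauz (wy.reverse ++ [0, 1]) 29) 30940 := upto_add pzT_u28560 rfl pzT_c28560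
theorem pzT_u33320 : Upto (chkPowT Fi24a.T tauz (wy.reverse ++ [0, 1]) 29) 33320 := upto_add pzT_u30940 rfl pzT_c30940
theorem pzT_u35700 : Upto (chkPowT Fi24a.T tauz (wy.reverse ++ [0, 1]) 29) 35700 := upto_add pzT_u33320 rfl pzT_c33320
theorem pzT_u38080 : Upto (chkPowT Fi24a.T tauz (wy.reverse ++ [0, 1]) 29) 38080 := upto_add pzT_u35700 rfl pzT_c35700
theorem pzT_u40460 : Upto (chkPowT Fi24a.T tauz (wy.reverse ++ [0, 1]) 29) 40460 := upto_add pzT_u38080 rfl pzT_c38080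
theorem pzT_u42840 : Upto (chkPowT Fi24a.T tauz (wy.reverse ++ [0, 1]) 29) 42840 := upto_add pzT_u40460 rfl pzT_c40460
theorem pzT_u45220 : Upto (chkPowT Fi24a.T tauz (wy.reverse ++ [0, 1]) 29) 45220 := upto_add pzT_u42840 rfl pzT_c42840
theorem pzT_u47600 : Upto (chkPowT Fi24a.T tauz (wy.reverse ++ [0, 1]) 29) 47600 := upto_add pzT_u45220 rfl pzT_c45220
theorem pzT_u49980 : Upto (chkPowT Fi24a.T tauz (wy.reverse ++ [0, 1]) 29) 49980 := upto_add pzT_u47600 rfl pzT_c47600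
theorem pzT_u52360 : Upto (chkPowT Fi24a.T tauz (wy.reverse ++ [0, 1]) 29) 52360 := upto_add pzT_u49980 rfl pzT_c49980
theorem pzT_u54740 : Upto (chkPowT Fi24a.T tauz (wy.reverse ++ [0, 1]) 29) 54740 := upto_add pzT_u52360 rfl pzT_c52360
theorem pzT_u57120 : Upto (chkPowT Fi24a.T tauz (wy.reverse ++ [0, 1]) 29) 57120 := upto_add pzT_u54740 rfl pzT_c54740
theorem pzT_u59500 : Upto (chkPowT Fi24a.T tauz (wy.reverse ++ [0, 1]) 29) 59500 := upto_add pzT_u57120 rfl pzT_c57120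
theorem pzT_u61880 : Upto (chkPowT Fi24a.T tauz (wy.reverse ++ [0, 1]) 29) 61880 := upto_add pzT_u59500 rfl pzT_c59500
theorem pzT_u64260 : Upto (chkPowT Fi24a.T tauz (wy.reverse ++ [0, 1]) 29) 64260 := upto_add pzT_u61880 rfl pzT_c61880
theorem pzT_u66640 : Upto (chkPowT Fi24a.T tauz (wy.reverse ++ [0, 1]) 29) 66640 := upto_add pzT_u64260 rfl pzT_c64260
theorem pzT_u69020 : Upto (chkPowT Fi24a.T tauz (wy.reverse ++ [0, 1]) 29) 69020 := upto_add pzT_u66640 rfl pzT_c66640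
theorem pzT_u71400 : Upto (chkPowT Fi24a.T tauz (wy.reverse ++ [0, 1]) 29) 71400 := upto_add pzT_u69020 rfl pzT_c69020
theorem pzT_u73780 : Upto (chkPowT Fi24a.T tauz (wy.reverse ++ [0, 1]) 29) 73780 := upto_add pzT_u71400 rfl pzT_c71400
theorem pzT_u76160 : Upto (chkPowT Fi24a.T tauz (wy.reverse ++ [0, 1]) 29) 76160 := upto_add pzT_u73780 rfl pzT_c73780
theorem pzT_u78540 : Upto (chkPowT Fi24a.T tauz (wy.reverse ++ [0, 1]) 29) 78540 := upto_add pzT_u76160 rfl pzT_c76160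
theorem pzT_u80920 : Upto (chkPowT Fi24a.T tauz (wy.reverse ++ [0, 1]) 29) 80920 := upto_add pzT_u78540 rfl pzT_c78540
theorem pzT_u83300 : Upto (chkPowT Fi24a.T tauz (wy.reverse ++ [0, 1]) 29) 83300 := upto_add pzT_u80920 rfl pzT_c80920
theorem pzT_u85680 : Upto (chkPowT Fi24a.T tauz (wy.reverse ++ [0, 1]) 29) 85680 := upto_add pzT_u83300 rfl pzT_c83300
theorem pzT_u88060 : Upto (chkPowT Fi24a.T tauz (wy.reverse ++ [0, 1]) 29) 88060 := upto_add pzT_u85680 rfl pzT_c85680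
theorem pzT_u90440 : Upto (chkPowT Fi24a.T tauz (wy.reverse ++ [0, 1]) 29) 90440 := upto_add pzT_u88060 rfl pzT_c88060
theorem pzT_u92820 : Upto (chkPowT Fi24a.T tauz (wy.reverse ++ [0, 1]) 29) 92820 := upto_add pzT_u90440 rfl pzT_c90440
theorem pzT_u95200 : Upto (chkPowT Fi24a.T tauz (wy.reverse ++ [0, 1]) 29) 95200 := upto_add pzT_u92820 rfl pzT_c92820
theorem pzT_u97580 : Upto (chkPowT Fi24a.T tauz (wy.reverse ++ [0, 1]) 29) 97580 := upto_add pzT_u95200 rfl pzT_c95200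
theorem pzT_u99960 : Upto (chkPowT Fi24a.T tauz (wy.reverse ++ [0, 1]) 29) 99960 := upto_add pzT_u97580 rfl pzT_c97580
theorem pzT_u102340 : Upto (chkPowT Fi24a.T tauz (wy.reverse ++ [0, 1]) 29) 102340 := upto_add pzT_u99960 rfl pzT_c99960
theorem pzT_u104720 : Upto (chkPowT Fi24a.T tauz (wy.reverse ++ [0, 1]) 29) 104720 := upto_add pzT_u102340 rfl pzT_c102340
theorem pzT_u107100 : Upto (chkPowT Fi24a.T tauz (wy.reverse ++ [0, 1]) 29) 107100 := upto_add pzT_u104720 rfl pzT_c104720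
theorem pzT_u109480 : Upto (chkPowT Fi24a.T tauz (wy.reverse ++ [0, 1]) 29) 109480 := upto_add pzT_u107100 rfl pzT_c107100
theorem pzT_u111860 : Upto (chkPowT Fi24a.T tauz (wy.reverse ++ [0, 1]) 29) 111860 := upto_add pzT_u109480 rfl pzT_c109480
theorem pzT_u114240 : Upto (chkPowT Fi24a.T tauz (wy.reverse ++ [0, 1]) 29) 114240 := upto_add pzT_u111860 rfl pzT_c111860
theorem pzT_u116620 : Upto (chkPowT Fi24a.T tauz (wy.reverse ++ [0, 1]) 29) 116620 := upto_add pzT_u114240 rfl pzT_c114240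
theorem pzT_u119000 : Upto (chkPowT Fi24a.T tauz (wy.reverse ++ [0, 1]) 29) 119000 := upto_add pzT_u116620 rfl pzT_c116620
theorem pzT_u121380 : Upto (chkPowT Fi24a.T tauz (wy.reverse ++ [0, 1]) 29) 121380 := upto_add pzT_u119000 rfl pzT_c119000
theorem pzT_u123760 : Upto (chkPowT Fi24a.T tauz (wy.reverse ++ [0, 1]) 29) 123760 := upto_add pzT_u121380 rfl pzT_c121380
theorem pzT_u126140 : Upto (chkPowT Fi24a.T tauz (wy.reverse ++ [0, 1]) 29) 126140 := upto_add pzT_u123760 rfl pzT_c123760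
theorem pzT_u128520 : Upto (chkPowT Fi24a.T tauz (wy.reverse ++ [0, 1]) 29) 128520 := upto_add pzT_u126140 rfl pzT_c126140
theorem pzT_u130900 : Upto (chkPowT Fi24a.T tauz (wy.reverse ++ [0, 1]) 29) 130900 := upto_add pzT_u128520 rfl pzT_c128520
theorem pzT_u133280 : Upto (chkPowT Fi24a.T tauz (wy.reverse ++ [0, 1]) 29) 133280 := upto_add pzT_u130900 rfl pzT_c130900
theorem pzT_u135660 : Upto (chkPowT Fi24a.T tauz (wy.reverse ++ [0, 1]) 29) 135660 := upto_add pzT_u133280 rfl pzT_c133280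
theorem pzT_u138040 : Upto (chkPowT Fi24a.T tauz (wy.reverse ++ [0, 1]) 29) 138040 := upto_add pzT_u135660 rfl pzT_c135660
theorem pzT_u140420 : Upto (chkPowT Fi24a.T tauz (wy.reverse ++ [0, 1]) 29) 140420 := upto_add pzT_u138040 rfl pzT_c138040
theorem pzT_u142800 : Upto (chkPowT Fi24a.T tauz (wy.reverse ++ [0, 1]) 29) 142800 := upto_add pzT_u140420 rfl pzT_c140420
theorem pzT_u145180 : Upto (chkPowT Fi24a.T tauz (wy.reverse ++ [0, 1]) 29) 145180 := upto_add pzT_u142800 rfl pzT_c142800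
theorem pzT_u147560 : Upto (chkPowT Fi24a.T tauz (wy.reverse ++ [0, 1]) 29) 147560 := upto_add pzT_u145180 rfl pzT_c145180
theorem pzT_u149940 : Upto (chkPowT Fi24a.T tauz (wy.reverse ++ [0, 1]) 29) 149940 := upto_add pzT_u147560 rfl pzT_c147560
theorem pzT_u152320 : Upto (chkPowT Fi24a.T tauz (wy.reverse ++ [0, 1]) 29) 152320 := upto_add pzT_u149940 rfl pzT_c149940
theorem pzT_u154700 : Upto (chkPowT Fi24a.T tauz (wy.reverse ++ [0, 1]) 29) 154700 := upto_add pzT_u152320 rfl pzT_c152320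
theorem pzT_u157080 : Upto (chkPowT Fi24a.T tauz (wy.reverse ++ [0, 1]) 29) 157080 := upto_add pzT_u154700 rfl pzT_c154700
theorem pzT_u159460 : Upto (chkPowT Fi24a.T tauz (wy.reverse ++ [0, 1]) 29) 159460 := upto_add pzT_u157080 rfl pzT_c157080
theorem pzT_u161840 : Upto (chkPowT Fi24a.T tauz (wy.reverse ++ [0, 1]) 29) 161840 := upto_add pzT_u159460 rfl pzT_c159460
theorem pzT_u164220 : Upto (chkPowT Fi24a.T tauz (wy.reverse ++ [0, 1]) 29) 164220 := upto_add pzT_u161840 rfl pzT_c161840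
theorem pzT_u166600 : Upto (chkPowT Fi24a.T tauz (wy.reverse ++ [0, 1]) 29) 166600 := upto_add pzT_u164220 rfl pzT_c164220
theorem pzT_u168980 : Upto (chkPowT Fi24a.T tauz (wy.reverse ++ [0, 1]) 29) 168980 := upto_add pzT_u166600 rfl pzT_c166600
theorem pzT_u171360 : Upto (chkPowT Fi24a.T tauz (wy.reverse ++ [0, 1]) 29) 171360 := upto_add pzT_u168980 rfl pzT_c168980
theorem pzT_u173740 : Upto (chkPowT Fi24a.T tauz (wy.reverse ++ [0, 1]) 29) 173740 := upto_add pzT_u171360 rfl pzT_c171360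
theorem pzT_u176120 : Upto (chkPowT Fi24a.T tauz (wy.reverse ++ [0, 1]) 29) 176120 := upto_add pzT_u173740 rfl pzT_c173740
theorem pzT_u178500 : Upto (chkPowT Fi24a.T tauz (wy.reverse ++ [0, 1]) 29) 178500 := upto_add pzT_u176120 rfl pzT_c176120
theorem pzT_u180880 : Upto (chkPowT Fi24a.T tauz (wy.reverse ++ [0, 1]) 29) 180880 := upto_add pzT_u178500 rfl pzT_c178500
theorem pzT_u183260 : Upto (chkPowT Fi24a.T tauz (wy.reverse ++ [0, 1]) 29) 183260 := upto_add pzT_u180880 rfl pzT_c180880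
theorem pzT_u185640 : Upto (chkPowT Fi24a.T tauz (wy.reverse ++ [0, 1]) 29) 185640 := upto_add pzT_u183260 rfl pzT_c183260
theorem pzT_u188020 : Upto (chkPowT Fi24a.T tauz (wy.reverse ++ [0, 1]) 29) 188020 := upto_add pzT_u185640 rfl pzT_c185640
theorem pzT_u190400 : Upto (chkPowT Fi24a.T tauz (wy.reverse ++ [0, 1]) 29) 190400 := upto_add pzT_u188020 rfl pzT_c188020
theorem pzT_u192780 : Upto (chkPowT Fi24a.T tauz (wy.reverse ++ [0, 1]) 29) 192780 := upto_add pzT_u190400 rfl pzT_c190400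
theorem pzT_u195160 : Upto (chkPowT Fi24a.T tauz (wy.reverse ++ [0, 1]) 29) 195160 := upto_add pzT_u192780 rfl pzT_c192780
theorem pzT_u197540 : Upto (chkPowT Fi24a.T tauz (wy.reverse ++ [0, 1]) 29) 197540 := upto_add pzT_u195160 rfl pzT_c195160
theorem pzT_u199920 : Upto (chkPowT Fi24a.T tauz (wy.reverse ++ [0, 1]) 29) 199920 := upto_add pzT_u197540 rfl pzT_c197540
theorem pzT_u202300 : Upto (chkPowT Fi24a.T tauz (wy.reverse ++ [0, 1]) 29) 202300 := upto_add pzT_u199920 rfl pzT_c199920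
theorem pzT_u204680 : Upto (chkPowT Fi24a.T tauz (wy.reverse ++ [0, 1]) 29) 204680 := upto_add pzT_u202300 rfl pzT_c202300
theorem pzT_u207060 : Upto (chkPowT Fi24a.T tauz (wy.reverse ++ [0, 1]) 29) 207060 := upto_add pzT_u204680 rfl pzT_c204680
theorem pzT_u209440 : Upto (chkPowT Fi24a.T tauz (wy.reverse ++ [0, 1]) 29) 209440 := upto_add pzT_u207060 rfl pzT_c207060
theorem pzT_u211820 : Upto (chkPowT Fi24a.T tauz (wy.reverse ++ [0, 1]) 29) 211820 := upto_add pzT_u209440 rfl pzT_c209440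
theorem pzT_u214200 : Upto (chkPowT Fi24a.T tauz (wy.reverse ++ [0, 1]) 29) 214200 := upto_add pzT_u211820 rfl pzT_c211820
theorem pzT_u216580 : Upto (chkPowT Fi24a.T tauz (wy.reverse ++ [0, 1]) 29) 216580 := upto_add pzT_u214200 rfl pzT_c214200
theorem pzT_u218960 : Upto (chkPowT Fi24a.T tauz (wy.reverse ++ [0, 1]) 29) 218960 := upto_add pzT_u216580 rfl pzT_c216580
theorem pzT_u221340 : Upto (chkPowT Fi24a.T tauz (wy.reverse ++ [0, 1]) 29) 221340 := upto_add pzT_u218960 rfl pzT_c218960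
theorem pzT_u223720 : Upto (chkPowT Fi24a.T tauz (wy.reverse ++ [0, 1]) 29) 223720 := upto_add pzT_u221340 rfl pzT_c221340
theorem pzT_u226100 : Upto (chkPowT Fi24a.T tauz (wy.reverse ++ [0, 1]) 29) 226100 := upto_add pzT_u223720 rfl pzT_c223720
theorem pzT_u228480 : Upto (chkPowT Fi24a.T tauz (wy.reverse ++ [0, 1]) 29) 228480 := upto_add pzT_u226100 rfl pzT_c226100
theorem pzT_u230860 : Upto (chkPowT Fi24a.T tauz (wy.reverse ++ [0, 1]) 29) 230860 := upto_add pzT_u228480 rfl pzT_c228480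
theorem pzT_u233240 : Upto (chkPowT Fi24a.T tauz (wy.reverse ++ [0, 1]) 29) 233240 := upto_add pzT_u230860 rfl pzT_c230860
theorem pzT_u235620 : Upto (chkPowT Fi24a.T tauz (wy.reverse ++ [0, 1]) 29) 235620 := upto_add pzT_u233240 rfl pzT_c233240
theorem pzT_u238000 : Upto (chkPowT Fi24a.T tauz (wy.reverse ++ [0, 1]) 29) 238000 := upto_add pzT_u235620 rfl pzT_c235620
theorem pzT_u240380 : Upto (chkPowT Fi24a.T tauz (wy.reverse ++ [0, 1]) 29) 240380 := upto_add pzT_u238000 rfl pzT_c238000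
theorem pzT_u242760 : Upto (chkPowT Fi24a.T tauz (wy.reverse ++ [0, 1]) 29) 242760 := upto_add pzT_u240380 rfl pzT_c240380
theorem pzT_u245140 : Upto (chkPowT Fi24a.T tauz (wy.reverse ++ [0, 1]) 29) 245140 := upto_add pzT_u242760 rfl pzT_c242760
theorem pzT_u247520 : Upto (chkPowT Fi24a.T tauz (wy.reverse ++ [0, 1]) 29) 247520 := upto_add pzT_u245140 rfl pzT_c245140
theorem pzT_u249900 : Upto (chkPowT Fi24a.T tauz (wy.reverse ++ [0, 1]) 29) 249900 := upto_add pzT_u247520 rfl pzT_c247520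
theorem pzT_u252280 : Upto (chkPowT Fi24a.T tauz (wy.reverse ++ [0, 1]) 29) 252280 := upto_add pzT_u249900 rfl pzT_c249900
theorem pzT_u254660 : Upto (chkPowT Fi24a.T tauz (wy.reverse ++ [0, 1]) 29) 254660 := upto_add pzT_u252280 rfl pzT_c252280
theorem pzT_u257040 : Upto (chkPowT Fi24a.T tauz (wy.reverse ++ [0, 1]) 29) 257040 := upto_add pzT_u254660 rfl pzT_c254660
theorem pzT_u259420 : Upto (chkPowT Fi24a.T tauz (wy.reverse ++ [0, 1]) 29) 259420 := upto_add pzT_u257040 rfl pzT_c257040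
theorem pzT_u261800 : Upto (chkPowT Fi24a.T tauz (wy.reverse ++ [0, 1]) 29) 261800 := upto_add pzT_u259420 rfl pzT_c259420
theorem pzT_u264180 : Upto (chkPowT Fi24a.T tauz (wy.reverse ++ [0, 1]) 29) 264180 := upto_add pzT_u261800 rfl pzT_c261800
theorem pzT_u266560 : Upto (chkPowT Fi24a.T tauz (wy.reverse ++ [0, 1]) 29) 266560 := upto_add pzT_u264180 rfl pzT_c264180
theorem pzT_u268940 : Upto (chkPowT Fi24a.T tauz (wy.reverse ++ [0, 1]) 29) 268940 := upto_add pzT_u266560 rfl pzT_c266560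
theorem pzT_u271320 : Upto (chkPowT Fi24a.T tauz (wy.reverse ++ [0, 1]) 29) 271320 := upto_add pzT_u268940 rfl pzT_c268940
theorem pzT_u273700 : Upto (chkPowT Fi24a.T tauz (wy.reverse ++ [0, 1]) 29) 273700 := upto_add pzT_u271320 rfl pzT_c271320
theorem pzT_u276080 : Upto (chkPowT Fi24a.T tauz (wy.reverse ++ [0, 1]) 29) 276080 := upto_add pzT_u273700 rfl pzT_c273700
theorem pzT_u278460 : Upto (chkPowT Fi24a.T tauz (wy.reverse ++ [0, 1]) 29) 278460 := upto_add pzT_u276080 rfl pzT_c276080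
theorem pzT_u280840 : Upto (chkPowT Fi24a.T tauz (wy.reverse ++ [0, 1]) 29) 280840 := upto_add pzT_u278460 rfl pzT_c278460
theorem pzT_u283220 : Upto (chkPowT Fi24a.T tauz (wy.reverse ++ [0, 1]) 29) 283220 := upto_add pzT_u280840 rfl pzT_c280840
theorem pzT_u285600 : Upto (chkPowT Fi24a.T tauz (wy.reverse ++ [0, 1]) 29) 285600 := upto_add pzT_u283220 rfl pzT_c283220
theorem pzT_u287980 : Upto (chkPowT Fi24a.T tauz (wy.reverse ++ [0, 1]) 29) 287980 := upto_add pzT_u285600 rfl pzT_c285600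
theorem pzT_u290360 : Upto (chkPowT Fi24a.T tauz (wy.reverse ++ [0, 1]) 29) 290360 := upto_add pzT_u287980 rfl pzT_c287980
theorem pzT_u292740 : Upto (chkPowT Fi24a.T tauz (wy.reverse ++ [0, 1]) 29) 292740 := upto_add pzT_u290360 rfl pzT_c290360
theorem pzT_u295120 : Upto (chkPowT Fi24a.T tauz (wy.reverse ++ [0, 1]) 29) 295120 := upto_add pzT_u292740 rfl pzT_c292740
theorem pzT_u297500 : Upto (chkPowT Fi24a.T tauz (wy.reverse ++ [0, 1]) 29) 297500 := upto_add pzT_u295120 rfl pzT_c295120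
theorem pzT_u299880 : Upto (chkPowT Fi24a.T tauz (wy.reverse ++ [0, 1]) 29) 299880 := upto_add pzT_u297500 rfl pzT_c297500
theorem pzT_u302260 : Upto (chkPowT Fi24a.T tauz (wy.reverse ++ [0, 1]) 29) 302260 := upto_add pzT_u299880 rfl pzT_c299880
theorem pzT_u304640 : Upto (chkPowT Fi24a.T tauz (wy.reverse ++ [0, 1]) 29) 304640 := upto_add pzT_u302260 rfl pzT_c302260
theorem pzT_u306936 : Upto (chkPowT Fi24a.T tauz (wy.reverse ++ [0, 1]) 29) 306936 := upto_add pzT_u304640 rfl pzT_c304640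
theorem pzT_all : ∀ x < 306936, (chkPowT Fi24a.T tauz (wy.reverse ++ [0, 1]) 29) x = true := pzT_u306936

theorem pz_all : ∀ x < 306936, chkPow Fi24a.T (wy.reverse ++ [0, 1]) 29 x = true :=
  chkPow_of_T Fi24a.cert.p1 tauz (wy.reverse ++ [0, 1]) (by decide +kernel) 29 pzT_all


end Cfsg.Agent.Lib.Helper56.Fi24S
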